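import Groth.Agent.EtpbcA.ArtinDim
import Groth.Agent.EtpbcA.ArtinTrdeg

/-!
# Transcendence degree of a residue field from the dimension of the closure of the point

`resTrdegLE_of_closure_dim`: on a scheme locally of finite type over a field, if the closure of the point
`x` has dimension at most `d`, the residue field of `x` has transcendence degree at most `d`.
-/

set_option autoImplicit false
universe u
open CategoryTheory CategoryTheory.Limits AlgebraicGeometry Opposite

namespace Groth.Agent.Etbc.H217.SuppDim

open Groth.Agent.EtpbcA.Artin

/-- If the closure of `x` has dimension `≤ d`, then `κ(x)` has transcendence degree `≤ d`. -/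
theorem resTrdegLE_of_closure_dim (K : Type u) [Field K] {X : Scheme.{u}}
    (f : X ⟶ Spec (CommRingCat.of K)) [LocallyOfFiniteType f] (x : X) (d : ℕ)
    (hd : topologicalKrullDim (closure ({x} : Set X)) ≤ d) : EtPBC.ResTrdegLE f x d := by
  let I := Scheme.IdealSheafData.vanishingIdeal (X := X) ⟨closure {x}, isClosed_closure⟩
  have hr : Set.range I.subschemeι = closure {x} := by
    rw [Scheme.IdealSheafData.range_subschemeι, Scheme.IdealSheafData.coe_support_vanishingIdeal]
    rfl
  have hemb : Topology.IsEmbedding I.subschemeι := I.subschemeι.isClosedEmbedding.isEmbedding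
  have hdim : topologicalKrullDim I.subscheme ≤ d := by
    rw [IsHomeomorph.topologicalKrullDim_eq _ hemb.toHomeomorph.isHomeomorph, hr]
    exact hd
  obtain ⟨z, hz⟩ : x ∈ Set.range I.subschemeι := by
    rw [hr]
    exact subset_closure rfl
  have h1 := (resTrdegLE_iff_dim K I.subscheme (I.subschemeι ≫ f) d).1 hdim z
  rw [← hz]
  exact (resTrdegLE_comp_iff f I.subschemeι z (algAt_of_surjectiveOnStalks _ _) d).1 h1

end Groth.Agent.Etbc.H217.SuppDim
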